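import Groth.Prelude.Def_Algz
import Mathlib.RingTheory.KrullDimension.NonZeroDivisors
import Mathlib.RingTheory.Noetherian.Basic

/-! Codimension of a specialization pair via a dimension function. -/

namespace Groth.Agent.Algz.DeltaLib

universe u

variable {Y : Type u} [TopologicalSpace Y]

/-- With respect to a dimension function the codimension is the drop of the function. -/
theorem codimPt_eq_toNat [T0Space Y] (δ : Y → ℤ)
    (h1 : ∀ x y : Y, x ⤳ y → x ≠ y → δ y < δ x)
    (h2 : ∀ x y : Y, x ⤳ y → x ≠ y → (∀ z, x ⤳ z → z ⤳ y → z = x ∨ z = y) → δ x = δ y + 1)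
    (w v : Y) (h : w ⤳ v) : Algz.codimPt w v h = ((δ w - δ v).toNat : ℕ∞) := by
  classical
  have hle : ∀ x y : Y, x ⤳ y → δ y ≤ δ x := by
    intro x y hxy
    by_cases he : x = y
    · rw [he]
    · exact (h1 x y hxy he).le
  refine le_antisymm ?_ ?_
  · let f : Set.Ici (Specialization.toEquiv v) → ℕ :=
      fun a => (δ (Specialization.ofEquiv a.1) - δ v).toNat
    have hf : StrictMono f := by
      intro a b hab
      have hb : δ v ≤ δ (Specialization.ofEquiv b.1) := hle _ _ b.2
      have ha : δ v ≤ δ (Specialization.ofEquiv a.1) := hle _ _ a.2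
      have hs : Specialization.ofEquiv b.1 ⤳ Specialization.ofEquiv a.1 := hab.le
      have hne : Specialization.ofEquiv b.1 ≠ Specialization.ofEquiv a.1 := by
        intro e
        apply hab.ne
        exact (Subtype.ext (Specialization.ofEquiv.injective e)).symm
      have := h1 _ _ hs hne
      simp only [f]
      omega
    refine (Order.height_le_height_apply_of_strictMono f hf _).trans ?_
    exact (Order.height_nat _).le
  · suffices ∀ (n : ℕ) (x : Y) (hx : x ⤳ v), (δ x - δ v).toNat = n → (n : ℕ∞) ≤ Algz.codimPt x v hx from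
      this _ w h rfl
    intro n
    induction n with
    | zero => intros; exact bot_le
    | succ n ih =>
      intro x hx hn
      have hxv : x ≠ v := by rintro rfl; simp at hn
      obtain ⟨d, ⟨z, hz1, hz2, hz3, rfl⟩, hmax⟩ := Int.exists_greatest_of_bdd
        (P := fun d => ∃ z, x ⤳ z ∧ z ⤳ v ∧ z ≠ x ∧ δ z = d)
        ⟨δ x, fun d ⟨z, a, _, _, e⟩ => e ▸ hle x z a⟩ ⟨δ v, v, hx, specializes_rfl, hxv.symm, rfl⟩
      have himm : δ x = δ z + 1 := by
        refine h2 x z hz1 hz3.symm fun y hy1 hy2 => ?_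
        by_contra hcon
        rw [not_or] at hcon
        have hlt := h1 y z hy2 hcon.2
        have := hmax (δ y) ⟨y, hy1, hy2.trans hz2, hcon.1, rfl⟩
        omega
      have hzn : (δ z - δ v).toNat = n := by omega
      have := ih z hz2 hzn
      rw [Algz.codimPt] at this ⊢
      have hlt : (⟨Specialization.toEquiv z, Specialization.toEquiv_le_toEquiv.mpr hz2⟩ :
          Set.Ici (Specialization.toEquiv v)) < ⟨Specialization.toEquiv x, Specialization.toEquiv_le_toEquiv.mpr hx⟩ := by
        refine lt_of_le_not_ge (Specialization.toEquiv_le_toEquiv.mpr hz1) fun hge => hz3 ?_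
        exact ((Specialization.toEquiv_le_toEquiv.mp hge).antisymm hz1).eq
      calc ((n + 1 : ℕ) : ℕ∞) = (n : ℕ∞) + 1 := by push_cast; rfl
        _ ≤ _ := (add_le_add this le_rfl).trans (Order.height_add_one_le hlt)

/-- If the value of a system is bounded, so is the drop of the dimension function along it. -/
theorem dimFun_le_of_delta_le [T0Space Y] (δ : Y → ℤ)
    (h1 : ∀ x y : Y, x ⤳ y → x ≠ y → δ y < δ x)
    (h2 : ∀ x y : Y, x ⤳ y → x ≠ y → (∀ z, x ⤳ z → z ⤳ y → z = x ∨ z = y) → δ x = δ y + 1)
    {Z : Set Y} {y : Y} {k : ℕ} (S : Algz.DSystem Z y k) (n : ℕ) (hS : S.delta ≤ n) :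
    δ y ≤ n + δ (S.v 0) := by
  classical
  have hnn : ∀ a b : Y, a ⤳ b → 0 ≤ δ a - δ b := by
    intro a b hab
    by_cases he : a = b
    · rw [he, sub_self]
    · have := h1 a b hab he; omega
  have hc : ∀ j, S.c j = ((δ (S.w j) - δ (S.v j)).toNat : ℕ∞) := fun j => codimPt_eq_toNat δ h1 h2 _ _ _
  have hb : ∀ j, S.b j = ((δ (S.w j.castSucc) - δ (S.v j.succ)).toNat : ℕ∞) := fun j =>
    codimPt_eq_toNat δ h1 h2 _ _ _
  have h0 : ((k : ℕ∞) + ((∑ j, S.c j) - ∑ j, S.b j)) ≤ n := by
    refine le_trans ?_ hS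
    refine add_le_add le_rfl (le_trans ?_ (Finset.le_sup (Finset.mem_univ (0 : Fin (k + 1)))))
    rw [Finset.filter_true_of_mem (fun j _ => Fin.zero_le j), Finset.filter_true_of_mem (fun j _ => by simp)]
  set C : ℕ := ∑ j, (δ (S.w j) - δ (S.v j)).toNat with hC
  set B : ℕ := ∑ j : Fin k, (δ (S.w j.castSucc) - δ (S.v j.succ)).toNat with hB
  have h3 : k + (C - B) ≤ n := by
    simp only [hc, hb] at h0
    rw [← Nat.cast_sum, ← Nat.cast_sum, ← hC, ← hB, ← ENat.coe_sub, ← Nat.cast_add, Nat.cast_le] at h0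
    exact h0
  have hCi : (C : ℤ) = ∑ j, (δ (S.w j) - δ (S.v j)) := by
    rw [hC, Nat.cast_sum]
    exact Finset.sum_congr rfl fun j _ => Int.toNat_of_nonneg (hnn _ _ (S.spec j))
  have hBi : (B : ℤ) = ∑ j : Fin k, (δ (S.w j.castSucc) - δ (S.v j.succ)) := by
    rw [hB, Nat.cast_sum]
    exact Finset.sum_congr rfl fun j _ => Int.toNat_of_nonneg (hnn _ _ (S.spec_succ j))
  have htel : (C : ℤ) - B = δ y - δ (S.v 0) := by
    rw [hCi, hBi, Finset.sum_sub_distrib, Finset.sum_sub_distrib,
      Fin.sum_univ_castSucc (fun j => δ (S.w j)), Fin.sum_univ_succ (fun j => δ (S.v j)), S.last_eq]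
    ring
  omega

/-- The coheight function on the spectrum of a catenary Noetherian local ring is a dimension function. -/
theorem coheight_covBy (A : Type u) [CommRing A] [IsNoetherianRing A] [IsLocalRing A]
    (hA : ∀ s t : LTSeries (PrimeSpectrum A), s.head = t.head → s.last = t.last →
      (∀ i : Fin s.length, s (Fin.castSucc i) ⋖ s (Fin.succ i)) →
      (∀ i : Fin t.length, t (Fin.castSucc i) ⋖ t (Fin.succ i)) → s.length = t.length)
    (p q : PrimeSpectrum A) (h : p ⋖ q) :
    (Order.coheight p).toNat = (Order.coheight q).toNat + 1 := by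
  have key : ∀ a : PrimeSpectrum A, ∃ s : LTSeries (PrimeSpectrum A),
      s.head = a ∧ s.last = IsLocalRing.closedPoint A ∧ s.length = (Order.coheight a).toNat ∧
      ∀ i : Fin s.length, s (Fin.castSucc i) ⋖ s (Fin.succ i) := by
    intro a
    have hfin : Order.coheight a ≠ ⊤ := (Order.coheight_lt_top a).ne
    have ha := (ENat.natCast_toNat hfin).symm
    obtain ⟨s, hs1, hs2⟩ := Order.exists_series_of_coheight_eq_coe a ha
    have hmax : ∀ t : LTSeries (PrimeSpectrum A), t.head = a → t.length ≤ s.length := by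
      intro t ht
      have h5 : (t.length : ℕ∞) ≤ Order.coheight a := ht ▸ Order.length_le_coheight_head
      rw [ha, ← hs2, Nat.cast_le] at h5
      exact h5
    refine ⟨s, hs1, ?_, hs2, ?_⟩
    · by_contra hne
      have hlt : s.last < IsLocalRing.closedPoint A :=
        lt_of_le_of_ne (IsLocalRing.le_maximalIdeal s.last.2.ne_top) hne
      have := hmax (s.snoc (IsLocalRing.closedPoint A) hlt) (by rw [RelSeries.head_snoc]; exact hs1)
      simp [RelSeries.snoc] at this
    · intro i
      refine ⟨s.strictMono Fin.castSucc_lt_succ, fun z hz1 hz2 => ?_⟩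
      have := hmax (s.insertNth i z hz1 hz2) (by
        rw [← hs1]
        exact Fin.insertNth_apply_below (α := fun _ => PrimeSpectrum A)
          (i := i.succ.castSucc) (j := (0 : Fin (s.length + 2))) (Fin.succ_pos i) z s.toFun)
      simp [RelSeries.insertNth] at this
  obtain ⟨s, hs1, hs2, hs3, hs4⟩ := key p
  obtain ⟨t, ht1, ht2, ht3, ht4⟩ := key q
  let t' : LTSeries (PrimeSpectrum A) :=
    { length := t.length + 1
      toFun := Fin.cons p t.toFun
      step := fun i => by
        induction i using Fin.cases with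
        | zero => exact (ht1 ▸ h.lt : p < t.head)
        | succ i => exact t.step i }
  have ht'l : t'.last = t.last := by
    show (Fin.cons p t.toFun : Fin (t.length + 2) → PrimeSpectrum A) (Fin.last (t.length + 1)) = _
    rw [← Fin.succ_last, Fin.cons_succ]
    rfl
  have hlen := hA s t' hs1 (by rw [hs2, ht'l, ht2]) hs4 (by
    intro i
    induction i using Fin.cases with
    | zero => exact (ht1 ▸ h : p ⋖ t.head)
    | succ i => exact ht4 i)
  rw [← hs3, hlen, ← ht3]

/-- The value of the one-step system. -/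
theorem deltaZ_le_codimPt (Z : Set Y) (v y : Y) (hv : v ∈ Z) (h : y ⤳ v) :
    Algz.deltaZ Z y ≤ Algz.codimPt y v h := by
  let S : Algz.DSystem Z y 0 :=
    { v := fun _ => v, w := fun _ => y, spec := fun _ => h, spec_succ := fun i => i.elim0,
      start_mem := hv, last_eq := rfl }
  refine (iInf₂_le 0 S).trans ?_
  simp [Algz.DSystem.delta, Algz.DSystem.c]
  exact le_of_eq rfl

end Groth.Agent.Algz.DeltaLib
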