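import Mathlib

/-!
# The graded lift of `φ_j : I^c → A` with `x = ∑ f_j φ_j(x)` to `⊕ I^{nc} → A[T]`
-/

universe u

open MvPolynomial

namespace Groth.Agent.Algz

variable {A : Type u} [CommRing A] {r : ℕ} {I : Ideal A} {c : ℕ}

/-- The defining properties of a graded lift. -/
def IsLift (φ : Fin r → (↥(I ^ c) →ₗ[A] A)) (Φ : ℕ → A → MvPolynomial (Fin r) A) : Prop :=
  (∀ n : ℕ, ∀ g ∈ I ^ (n * c), ∀ h ∈ I ^ (n * c), Φ n (g + h) = Φ n g + Φ n h) ∧
  (∀ (n : ℕ) (a : A), ∀ g ∈ I ^ (n * c), Φ n (a * g) = a • Φ n g) ∧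
  (∀ n : ℕ, ∀ g ∈ I ^ (n * c), (Φ n g).IsHomogeneous n) ∧
  (∀ n m : ℕ, ∀ g ∈ I ^ (n * c), ∀ h ∈ I ^ (m * c), Φ (n + m) (g * h) = Φ n g * Φ m h) ∧
  (∀ a : A, Φ 0 a = C a) ∧
  (∀ (g : A) (hg : g ∈ I ^ c), Φ 1 g = ∑ j, C (φ j ⟨g, hg⟩) * X j)

open Classical in
/-- The lift, by iterating the `φ_j`. -/
noncomputable def lift (φ : Fin r → (↥(I ^ c) →ₗ[A] A)) : ℕ → A → MvPolynomial (Fin r) A
  | 0, a => C a
  | n + 1, g => if hg : g ∈ I ^ c then ∑ j, lift φ n (φ j ⟨g, hg⟩) * X j else 0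

variable (φ : Fin r → (↥(I ^ c) →ₗ[A] A))

lemma le_pow_mul (n : ℕ) : I ^ ((n + 1) * c) ≤ I ^ c :=
  Ideal.pow_le_pow_right (Nat.le_mul_of_pos_left c n.succ_pos)

lemma pow_succ_mul (n : ℕ) : I ^ ((n + 1) * c) = I ^ (n * c) * I ^ c := by
  rw [← pow_add, Nat.succ_mul]

lemma phi_mul (j : Fin r) (a : A) {b : A} (hb : b ∈ I ^ c) (h : a * b ∈ I ^ c) :
    φ j ⟨a * b, h⟩ = a * φ j ⟨b, hb⟩ := by
  rw [show (⟨a * b, h⟩ : ↥(I ^ c)) = a • ⟨b, hb⟩ from rfl, map_smul, smul_eq_mul]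

lemma phi_mem {n : ℕ} {g : A} (hg : g ∈ I ^ ((n + 1) * c)) (j : Fin r) :
    φ j ⟨g, le_pow_mul n hg⟩ ∈ I ^ (n * c) := by
  suffices h : g ∈ I ^ c ∧ ∀ h' : g ∈ I ^ c, φ j ⟨g, h'⟩ ∈ I ^ (n * c) from h.2 _
  rw [pow_succ_mul] at hg
  induction hg using Submodule.mul_induction_on' with
  | mem_mul_mem a ha b hb =>
    exact ⟨Ideal.mul_mem_left _ a hb, fun h' => by
      rw [phi_mul φ j a hb]; exact Ideal.mul_mem_right _ _ ha⟩
  | add x _ y _ hx hy =>
    refine ⟨add_mem hx.1 hy.1, fun h' => ?_⟩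
    rw [show (⟨x + y, h'⟩ : ↥(I ^ c)) = ⟨x, hx.1⟩ + ⟨y, hy.1⟩ from rfl, map_add]
    exact add_mem (hx.2 _) (hy.2 _)

lemma lift_succ {n : ℕ} {g : A} (hg : g ∈ I ^ c) :
    lift φ (n + 1) g = ∑ j, lift φ n (φ j ⟨g, hg⟩) * X j := by
  rw [lift, dif_pos hg]

lemma lift_linear : ∀ n : ℕ, (∀ g ∈ I ^ (n * c), ∀ h ∈ I ^ (n * c),
    lift φ n (g + h) = lift φ n g + lift φ n h) ∧
      ∀ (a : A), ∀ g ∈ I ^ (n * c), lift φ n (a * g) = a • lift φ n g
  | 0 => ⟨fun g _ h _ => C_add, fun a g _ => by simp only [lift, C_mul, smul_eq_C_mul]⟩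
  | n + 1 => by
    obtain ⟨hadd, hsmul⟩ := lift_linear n
    refine ⟨fun g hg h hh => ?_, fun a g hg => ?_⟩
    · have hg' := le_pow_mul n hg
      have hh' := le_pow_mul n hh
      rw [lift_succ φ (add_mem hg' hh'), lift_succ φ hg', lift_succ φ hh', ← Finset.sum_add_distrib]
      refine Finset.sum_congr rfl fun j _ => ?_
      rw [← add_mul, ← hadd _ (phi_mem φ hg j) _ (phi_mem φ hh j), ← map_add]
      rfl
    · have hg' := le_pow_mul n hg
      rw [lift_succ φ (Ideal.mul_mem_left _ a hg'), lift_succ φ hg', Finset.smul_sum]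
      refine Finset.sum_congr rfl fun j _ => ?_
      rw [phi_mul φ j a hg', hsmul a _ (phi_mem φ hg j), smul_mul_assoc]

lemma lift_homogeneous : ∀ (n : ℕ), ∀ g ∈ I ^ (n * c), (lift φ n g).IsHomogeneous n
  | 0, g, _ => isHomogeneous_C _ _
  | n + 1, g, hg => by
    rw [lift_succ φ (le_pow_mul n hg)]
    exact IsHomogeneous.sum _ _ _ fun j _ =>
      (lift_homogeneous n _ (phi_mem φ hg j)).mul (isHomogeneous_X A j)

lemma lift_one {g : A} (hg : g ∈ I ^ c) : lift φ 1 g = ∑ j, C (φ j ⟨g, hg⟩) * X j := by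
  rw [lift_succ φ hg]; rfl

lemma lift_mul_one {n : ℕ} {a b : A} (ha : a ∈ I ^ (n * c)) (hb : b ∈ I ^ c) :
    lift φ (n + 1) (a * b) = lift φ n a * lift φ 1 b := by
  rw [lift_succ φ (Ideal.mul_mem_left _ a hb), lift_one φ hb, Finset.mul_sum]
  refine Finset.sum_congr rfl fun j _ => ?_
  rw [phi_mul φ j a hb, mul_comm a, (lift_linear φ n).2 _ a ha, smul_eq_C_mul]
  ring

lemma lift_mul (n : ℕ) : ∀ m : ℕ, ∀ g ∈ I ^ (n * c), ∀ h ∈ I ^ (m * c),
    lift φ (n + m) (g * h) = lift φ n g * lift φ m h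
  | 0, g, hg, h, _ => by
    rw [Nat.add_zero, mul_comm g, (lift_linear φ n).2 h g hg, smul_eq_C_mul, mul_comm]
    rfl
  | m + 1, g, hg, h, hh => by
    rw [pow_succ_mul] at hh
    induction hh using Submodule.mul_induction_on' with
    | mem_mul_mem a ha b hb =>
      have hga : g * a ∈ I ^ ((n + m) * c) := by
        rw [Nat.add_mul, pow_add]; exact Ideal.mul_mem_mul hg ha
      rw [← mul_assoc, ← Nat.add_assoc, lift_mul_one φ hga hb, lift_mul n m g hg a ha,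
        lift_mul_one φ ha hb, mul_assoc]
    | add x hx y hy ihx ihy =>
      have hx' : x ∈ I ^ ((m + 1) * c) := (pow_succ_mul (I := I) (c := c) m).symm ▸ hx
      have hy' : y ∈ I ^ ((m + 1) * c) := (pow_succ_mul (I := I) (c := c) m).symm ▸ hy
      have hmem : ∀ {z : A}, z ∈ I ^ ((m + 1) * c) → g * z ∈ I ^ ((n + (m + 1)) * c) := fun hz => by
        rw [Nat.add_mul, pow_add]; exact Ideal.mul_mem_mul hg hz
      rw [mul_add, (lift_linear φ _).1 _ (hmem hx') _ (hmem hy'),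
        (lift_linear φ _).1 _ hx' _ hy', mul_add, ihx, ihy]

theorem isLift_lift : IsLift φ (lift φ) :=
  ⟨fun n => (lift_linear φ n).1, fun n => (lift_linear φ n).2, lift_homogeneous φ,
    fun n m => lift_mul φ n m, fun _ => rfl, fun _ hg => lift_one φ hg⟩

theorem IsLift.eq_lift {Φ : ℕ → A → MvPolynomial (Fin r) A} (h : IsLift φ Φ) :
    ∀ n : ℕ, ∀ g ∈ I ^ (n * c), Φ n g = lift φ n g
  | 0, g, _ => h.2.2.2.2.1 g
  | n + 1, g, hg => by
    rw [pow_succ_mul] at hg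
    induction hg using Submodule.mul_induction_on' with
    | mem_mul_mem a ha b hb =>
      rw [h.2.2.2.1 n 1 a ha b (by rwa [one_mul]), IsLift.eq_lift h n a ha, h.2.2.2.2.2 b hb,
        lift_mul_one φ ha hb, lift_one φ hb]
    | add x hx y hy ihx ihy =>
      have hx' : x ∈ I ^ ((n + 1) * c) := (pow_succ_mul (I := I) (c := c) n).symm ▸ hx
      have hy' : y ∈ I ^ ((n + 1) * c) := (pow_succ_mul (I := I) (c := c) n).symm ▸ hy
      rw [h.1 _ x hx' y hy', (lift_linear φ _).1 x hx' y hy', ihx, ihy]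

theorem aeval_lift (f : Fin r → A) (hφ : ∀ x : ↥(I ^ c), (x : A) = ∑ j, f j * φ j x) :
    ∀ n : ℕ, ∀ g ∈ I ^ (n * c), aeval f (lift φ n g) = g
  | 0, g, _ => by simp [lift]
  | n + 1, g, hg => by
    refine Eq.trans ?_ (hφ ⟨g, le_pow_mul n hg⟩).symm
    rw [lift_succ φ (le_pow_mul n hg), map_sum]
    refine Finset.sum_congr rfl fun j _ => ?_
    rw [map_mul, aeval_lift f hφ n _ (phi_mem φ hg j), aeval_X, mul_comm]

/-- Coefficients of the lift lie in high powers of `I` when the values of `φ` do. -/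
theorem lift_mem_map_C {k : ℕ} (hk : ∀ (j : Fin r) (x : ↥(I ^ c)), φ j x ∈ I ^ k) :
    ∀ n : ℕ, ∀ g ∈ I ^ (n * c), lift φ n g ∈ Ideal.map C (I ^ (n * k))
  | 0, g, _ => by
    rw [Nat.zero_mul, pow_zero, Ideal.one_eq_top, Ideal.map_top]; trivial
  | n + 1, g, hg => by
    rw [pow_succ_mul] at hg
    induction hg using Submodule.mul_induction_on' with
    | mem_mul_mem a ha b hb =>
      rw [lift_mul_one φ ha hb, Nat.succ_mul, pow_add, Ideal.map_mul]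
      refine Ideal.mul_mem_mul (lift_mem_map_C hk n a ha) ?_
      rw [lift_one φ hb]
      exact sum_mem fun j _ => Ideal.mul_mem_right _ _ (Ideal.mem_map_of_mem _ (hk j _))
    | add x hx y hy ihx ihy =>
      have hx' : x ∈ I ^ ((n + 1) * c) := (pow_succ_mul (I := I) (c := c) n).symm ▸ hx
      have hy' : y ∈ I ^ ((n + 1) * c) := (pow_succ_mul (I := I) (c := c) n).symm ▸ hy
      rw [(lift_linear φ _).1 x hx' y hy']
      exact add_mem ihx ihy

end Groth.Agent.Algz
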